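import Cfsg.Agent.Bt.Defs

set_option autoImplicit false
set_option maxRecDepth 1000000
set_option maxHeartbeats 0
set_option Elab.async false

namespace CF.Recog.ON

open CF.Comp CF.Bt

noncomputable def CU : List Lvl := [⟨(nat_lit 0), [[(nat_lit 1)],
  [(nat_lit 3)],
  [(nat_lit 5)],
  [(nat_lit 9)],
  [(nat_lit 7), (nat_lit 1)]], (nat_lit 3)⟩,
  ⟨(nat_lit 1), [[(nat_lit 7), (nat_lit 4), (nat_lit 5), (nat_lit 1)],
  [(nat_lit 9), (nat_lit 5), (nat_lit 9), (nat_lit 1)],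
  [(nat_lit 7), (nat_lit 3), (nat_lit 5), (nat_lit 3)],
  [(nat_lit 5), (nat_lit 7), (nat_lit 9), (nat_lit 7), (nat_lit 1)]], (nat_lit 3)⟩,
  ⟨(nat_lit 2), [[(nat_lit 7), (nat_lit 9), (nat_lit 7), (nat_lit 4), (nat_lit 1), (nat_lit 7), (nat_lit 9), (nat_lit 1), (nat_lit 7)],
  [(nat_lit 9), (nat_lit 7), (nat_lit 9), (nat_lit 5), (nat_lit 4), (nat_lit 1), (nat_lit 7), (nat_lit 3), (nat_lit 5), (nat_lit 3)]], (nat_lit 1)⟩,
  ⟨(nat_lit 224), [[(nat_lit 9), (nat_lit 1), (nat_lit 9), (nat_lit 1)],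
  [(nat_lit 3), (nat_lit 1), (nat_lit 3), (nat_lit 1), (nat_lit 3), (nat_lit 1)]], (nat_lit 1)⟩]
noncomputable def CD : List Lvl := [⟨(nat_lit 0), [[(nat_lit 9), (nat_lit 5), (nat_lit 9), (nat_lit 5)],
  [(nat_lit 7), (nat_lit 3), (nat_lit 9), (nat_lit 7), (nat_lit 3)],
  [(nat_lit 9), (nat_lit 1), (nat_lit 7), (nat_lit 3), (nat_lit 9), (nat_lit 1)],
  [(nat_lit 3), (nat_lit 5), (nat_lit 1), (nat_lit 3), (nat_lit 5), (nat_lit 3), (nat_lit 1)]], (nat_lit 2)⟩,
  ⟨(nat_lit 1), [[(nat_lit 4), (nat_lit 5), (nat_lit 7), (nat_lit 9), (nat_lit 1), (nat_lit 7), (nat_lit 9), (nat_lit 4), (nat_lit 1), (nat_lit 3), (nat_lit 1)]], (nat_lit 1)⟩,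
  ⟨(nat_lit 224), [[(nat_lit 9), (nat_lit 1), (nat_lit 9), (nat_lit 1)]], (nat_lit 1)⟩]
noncomputable def BD_1 : Tr := (.base (nat_lit 0xa9b0f6110755405000c44a845af05a184beddc860a860550632a54fa) (.focus 0 (.op 2 0 (.op 4 1 (.xor 1 0 (.focus 0 (.base (nat_lit 0x564b09e690a2ae8f9e18946b8001a162a0120319d168faaf9c440304) (.op 4 0 (.focus 0 (.sym [[11], [15]] (.cons [5] 1 0 (.base (nat_lit 0x4000000100000000000000000000000100000000004) (.op 4 0 (.and 0 1 (.dead0 0)))) (.cons [1] 1 0 (.base (nat_lit 0x4000000100000000000000000000000100000000004) (.op 4 1 (.and 1 0 (.dead0 0)))) (.cons [3] 1 0 (.base (nat_lit 0x4000000100000000000000000000000100000000004) (.op 4 0 (.and 0 8 (.dead 0)))) (.cons [2] 1 0 (.base (nat_lit 0x4000000100000000000000000000000100000000004) (.op 4 0 (.base (nat_lit 0x80000000000000000000000000) (.and 1 0 (.dead0 0))))) (.cons [6] 1 0 (.base (nat_lit 0x4000000100000000000000000000000100000000004) (.op 4 0 (.and 0 1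 (.dead0 0)))) (.cons [1, 5] 1 0 (.focus 2 (.xor 5 1 (.focus 0 (.focus 4 (.base (nat_lit 0x4000000100000000000000000000000100000000004) (.focus 0 (.cons [] 0 0 (.base (nat_lit 32) (.op 4 11 (.and 1 0 (.dead0 0)))) (.cons [1] 0 0 (.base (nat_lit 256) (.op 7 4 (.and 1 0 (.dead0 0)))) (.cons [4] 0 0 (.base (nat_lit 32) (.op 4 11 (.and 1 0 (.dead0 0)))) .nil))))))))) (.cons [7, 7] 1 0 (.focus 2 (.xor 5 1 (.focus 0 (.focus 4 (.base (nat_lit 0x4000000100000000000000000000000100000000004) (.focus 0 (.cons [4] 0 0 (.base (nat_lit 32) (.op 4 11 (.and 1 0 (.dead0 0)))) (.cons [1] 0 0 (.base (nat_lit 32) (.op 4 11 (.and 1 0 (.dead0 0)))) (.cons [3] 0 0 (.focus 6 (.focus 2 (.base (nat_lit 0x8008000000040000000000000000100000000000000000000000000000000000000000000000000000000) (.focus 0 (.sym [[11]] (.cons [] 1 0 (.base (nat_lit 0x100000000000000000000000000000000000000000000000000000000) (.op 4 0 (.base (nat_lit 0x800000000000000000000000000000000000000000000000000000000000000000000000000000000000000000000000000000000)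 (.and 1 0 (.dead0 0))))) (.cons [3] 1 0 (.base (nat_lit 0x100000000000000000000000000000000000000000000000000000000) (.op 4 0 (.base (nat_lit 0x800000000000000000000000000000000000000000000000000000000000000000000000000000000000000000000000000000000) (.and 1 0 (.dead0 0))))) .nil))))))) .nil))))))))) (.cons [5, 1] 1 0 (.base (nat_lit 0x4000000100000000000000000000000100000000004) (.op 4 0 (.and 0 8 (.dead0 0)))) (.cons [9, 3] 1 0 (.base (nat_lit 0x4000000100000000000000000000000100000000004) (.op 4 0 (.and 0 1 (.dead0 0)))) (.cons [6, 2] 1 0 (.base (nat_lit 0x4000000100000000000000000000000100000000004) (.op 4 0 (.and 0 8 (.dead 0)))) (.cons [7, 1] 1 0 (.base (nat_lit 0x4000000100000000000000000000000100000000004) (.op 4 0 (.and 0 8 (.dead 0)))) (.cons [2, 7, 1] 1 0 (.base (nat_lit 0x4000000100000000000000000000000100000000004) (.op 4 0 (.and 0 8 (.dead 0)))) (.cons [5, 1, 7] 1 0 (.base (nat_lit 0x4000000100000000000000000000000100000000004)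 (.op 7 1 (.and 1 0 (.dead0 0)))) (.cons [7, 6, 3] 1 0 (.base (nat_lit 0x4000000100000000000000000000000100000000004) (.op 4 0 (.and 0 8 (.dead0 0)))) (.cons [2, 5, 7] 1 0 (.base (nat_lit 0x4000000100000000000000000000000100000000004) (.op 4 0 (.and 0 1 (.dead0 0)))) (.cons [1, 7, 6] 1 0 (.base (nat_lit 0x4000000100000000000000000000000100000000004) (.op 4 0 (.and 0 8 (.dead 0)))) .nil))))))))))))))))))))))))))
noncomputable def BD : Tr := (.base (nat_lit 0xffffffffffffffffffffffffffffffffffffffffffffffffffffffff) (.focus 0 (.sym [[1], [3], [5], [7]] (.cons [] 2 4 (.base (nat_lit 0xa9b0f6110755405000c44a845af05a184beddc860a860550632a54fa) (.focus 0 (.op 2 0 (.op 4 1 (.xor 1 0 (.focus 0 (.base (nat_lit 0x564b09e690a2ae8f9e18946b8001a162a0120319d168faaf9c440304) (.op 4 0 (.focus 0 (.sym [[9], [11]] (.cons [] 1 2 (.focus 2 (.xor 5 1 (.focus 0 (.focus 4 (.base (nat_lit 0x4000000100000000000000000000000100000000004) (.focus 0 (.cons []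 0 2 (.base (nat_lit 0x8008000000040000000000000000100000000000000000000000000000000000000000000000000000000) (.focus 0 (.sym [[11]] (.cons [] 1 1 .triv (.cons [4] 1 0 (.base (nat_lit 0x100000000000000000000000000000000000000000000000000000000) (.op 4 0 (.base (nat_lit 0x800000000000000000000000000000000000000000000000000000000000000000000000000000000000000000000000000000000) (.and 1 0 (.dead0 0))))) .nil))))) (.cons [3] 0 0 (.base (nat_lit 32) (.op 4 11 (.and 1 0 (.dead0 0)))) (.cons [1] 0 0 (.base (nat_lit 32) (.op 4 11 (.and 1 0 (.dead0 0)))) .nil))))))))) (.cons [7] 1 0 (.base (nat_lit 0x4000000100000000000000000000000100000000004) (.op 4 0 (.and 0 1 (.dead0 0)))) (.cons [1] 1 0 (.base (nat_lit 0x4000000100000000000000000000000100000000004) (.op 4 0 (.and 0 1 (.dead0 0)))) (.cons [6, 3] 1 0 (.base (nat_lit 0x4000000100000000000000000000000100000000004) (.op 4 0 (.base (nat_lit 0x80000000000000000000000000) (.and 1 0 (.dead0 0)))))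 (.cons [1, 7] 1 0 (.base (nat_lit 0x4000000100000000000000000000000100000000004) (.op 4 0 (.and 0 8 (.dead 0)))) (.cons [6, 7] 1 0 (.base (nat_lit 0x4000000100000000000000000000000100000000004) (.op 4 0 (.and 0 8 (.dead 0)))) (.cons [9, 3] 1 0 (.base (nat_lit 0x4000000100000000000000000000000100000000004) (.op 7 1 (.and 1 0 (.dead0 0)))) (.cons [1, 5] 1 0 (.base (nat_lit 0x4000000100000000000000000000000100000000004) (.op 4 0 (.and 0 8 (.dead0 0)))) (.cons [1, 3] 1 0 (.base (nat_lit 0x4000000100000000000000000000000100000000004) (.op 4 0 (.and 0 1 (.dead0 0)))) (.cons [9, 8] 1 0 (.base (nat_lit 0x4000000100000000000000000000000100000000004) (.op 4 0 (.and 0 8 (.dead0 0)))) (.cons [5, 3, 7] 1 0 (.base (nat_lit 0x4000000100000000000000000000000100000000004) (.op 4 0 (.and 0 1 (.dead0 0)))) (.cons [2, 6, 3] 1 0 (.base (nat_lit 0x4000000100000000000000000000000100000000004) (.op 4 0 (.and 0 8 (.dead 0)))) (.cons [1, 5, 7] 1 0 (.focus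 2 (.xor 5 1 (.focus 0 (.focus 4 (.base (nat_lit 0x4000000100000000000000000000000100000000004) (.focus 0 (.cons [] 0 0 (.base (nat_lit 32) (.op 4 11 (.and 1 0 (.dead0 0)))) (.cons [4] 0 0 (.base (nat_lit 32) (.op 4 11 (.and 1 0 (.dead0 0)))) (.cons [1] 0 0 (.base (nat_lit 256) (.op 7 4 (.and 1 0 (.dead0 0)))) .nil))))))))) (.cons [2, 5, 7] 1 0 (.base (nat_lit 0x4000000100000000000000000000000100000000004) (.op 4 0 (.and 0 8 (.dead 0)))) (.cons [1, 3, 5] 1 0 (.base (nat_lit 0x4000000100000000000000000000000100000000004) (.op 4 0 (.and 0 8 (.dead 0)))) (.cons [2, 6, 7] 1 0 (.base (nat_lit 0x4000000100000000000000000000000100000000004) (.op 4 1 (.and 1 0 (.dead0 0)))) .nil)))))))))))))))))))))))))) (.cons [3] 2 0 (.base (nat_lit 0xa9b0f6110755405000c44a845af05a184beddc860a860550632a54fa) (.op 4 1 (.and 1 0 (.dead0 0)))) (.cons [4] 2 0 (.base (nat_lit 0xa9b0f6110755405000c44a845af05a184beddc860a860550632a54fa) (.op 4 1 (.and 1 0 (.dead0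 0)))) (.cons [9] 2 0 (.base (nat_lit 0xa9b0f6110755405000c44a845af05a184beddc860a860550632a54fa) (.op 4 1 (.and 1 0 (.dead0 0)))) (.cons [4, 1] 1 0 (.base (nat_lit 0xa9b0f6110755405000c44a845af05a184beddc860a860550632a54fa) (.op 4 1 (.and 1 0 (.dead0 0)))) (.cons [10, 7] 2 0 (.base (nat_lit 0xa9b0f6110755405000c44a845af05a184beddc860a860550632a54fa) (.focus 0 (.op 2 0 (.op 4 1 (.xor 1 0 (.focus 0 (.base (nat_lit 0x564b09e690a2ae8f9e18946b8001a162a0120319d168faaf9c440304) (.op 4 0 (.focus 0 (.sym [[11], [13]] (.cons [] 1 0 (.base (nat_lit 0x4000000100000000000000000000000100000000004) (.op 4 0 (.and 0 1 (.dead0 0)))) (.cons [2] 1 0 (.base (nat_lit 0x4000000100000000000000000000000100000000004) (.op 4 0 (.base (nat_lit 0x80000000000000000000000000) (.and 1 0 (.dead0 0))))) (.cons [5] 1 0 (.base (nat_lit 0x4000000100000000000000000000000100000000004) (.op 4 0 (.and 0 8 (.dead0 0)))) (.cons [7] 1 0 (.base (nat_lit 0x4000000100000000000000000000000100000000004)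 (.op 4 0 (.and 0 8 (.dead 0)))) (.cons [3] 1 0 (.base (nat_lit 0x4000000100000000000000000000000100000000004) (.op 4 0 (.and 0 1 (.dead0 0)))) (.cons [5, 1] 1 0 (.base (nat_lit 0x4000000100000000000000000000000100000000004) (.op 4 0 (.and 0 1 (.dead0 0)))) (.cons [2, 7] 1 0 (.base (nat_lit 0x4000000100000000000000000000000100000000004) (.op 4 0 (.and 0 1 (.dead0 0)))) (.cons [5, 7] 1 0 (.base (nat_lit 0x4000000100000000000000000000000100000000004) (.op 4 0 (.base (nat_lit 0x80000000000000000000000000) (.and 1 0 (.dead0 0))))) (.cons [3, 5] 1 0 (.base (nat_lit 0x4000000100000000000000000000000100000000004) (.op 4 0 (.and 0 8 (.dead 0)))) (.cons [1, 5, 7] 1 0 (.base (nat_lit 0x4000000100000000000000000000000100000000004) (.op 4 0 (.and 0 8 (.dead 0)))) (.cons [3, 6, 7] 1 0 (.base (nat_lit 0x4000000100000000000000000000000100000000004) (.op 4 0 (.and 0 8 (.dead 0)))) (.cons [9, 6, 1] 1 0 (.base (nat_lit 0x4000000100000000000000000000000100000000004)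 (.op 4 0 (.and 0 8 (.dead 0)))) (.cons [2, 6, 3] 1 0 (.focus 2 (.xor 5 1 (.focus 0 (.focus 4 (.base (nat_lit 0x4000000100000000000000000000000100000000004) (.focus 0 (.cons [4] 0 0 (.base (nat_lit 32) (.op 4 11 (.and 1 0 (.dead0 0)))) (.cons [1] 0 0 (.base (nat_lit 32) (.op 4 11 (.and 1 0 (.dead0 0)))) (.cons [3] 0 0 (.base (nat_lit 256) (.op 7 4 (.and 1 0 (.dead0 0)))) .nil))))))))) (.cons [9, 5, 3] 1 0 (.base (nat_lit 0x4000000100000000000000000000000100000000004) (.op 4 0 (.and 0 8 (.dead0 0)))) (.cons [7, 5, 7] 1 0 (.base (nat_lit 0x4000000100000000000000000000000100000000004) (.op 4 1 (.and 1 0 (.dead0 0)))) (.cons [6, 7, 1] 1 0 (.base (nat_lit 0x4000000100000000000000000000000100000000004) (.op 7 1 (.and 1 0 (.dead0 0)))) .nil)))))))))))))))))))))))))) (.cons [7, 4] 2 0 BD_1 (.cons [9, 3] 2 0 (.base (nat_lit 0xa9b0f6110755405000c44a845af05a184beddc860a860550632a54fa) (.op 4 1 (.and 1 0 (.dead0 0)))) (.cons [5, 10] 2 0 (.base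 (nat_lit 0xa9b0f6110755405000c44a845af05a184beddc860a860550632a54fa) (.op 4 1 (.and 1 0 (.dead0 0)))) (.cons [3, 1] 2 0 (.base (nat_lit 0xa9b0f6110755405000c44a845af05a184beddc860a860550632a54fa) (.focus 0 (.op 2 0 (.op 4 1 (.xor 1 0 (.focus 0 (.base (nat_lit 0x564b09e690a2ae8f9e18946b8001a162a0120319d168faaf9c440304) (.op 4 0 (.focus 0 (.sym [[3], [11]] (.cons [6] 1 0 (.base (nat_lit 0x4000000100000000000000000000000100000000004) (.op 4 1 (.and 1 0 (.dead0 0)))) (.cons [9, 3] 1 0 (.focus 2 (.xor 5 1 (.focus 0 (.focus 4 (.base (nat_lit 0x4000000100000000000000000000000100000000004) (.focus 0 (.cons [] 0 0 (.base (nat_lit 256) (.op 7 4 (.and 1 0 (.dead0 0)))) (.cons [3] 0 0 (.base (nat_lit 32) (.op 4 11 (.and 1 0 (.dead0 0)))) (.cons [1] 0 0 (.base (nat_lit 32) (.op 4 11 (.and 1 0 (.dead0 0)))) .nil))))))))) (.cons [2, 6] 1 0 (.base (nat_lit 0x4000000100000000000000000000000100000000004) (.op 4 0 (.and 0 1 (.dead0 0)))) (.cons [5,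 3] 1 0 (.base (nat_lit 0x4000000100000000000000000000000100000000004) (.op 4 0 (.base (nat_lit 0x80000000000000000000000000) (.and 1 0 (.dead0 0))))) (.cons [5, 7] 1 0 (.base (nat_lit 0x4000000100000000000000000000000100000000004) (.op 4 0 (.and 0 1 (.dead0 0)))) (.cons [1, 5] 1 0 (.base (nat_lit 0x4000000100000000000000000000000100000000004) (.op 4 0 (.and 0 8 (.dead 0)))) (.cons [7, 3] 1 0 (.base (nat_lit 0x4000000100000000000000000000000100000000004) (.op 4 0 (.and 0 8 (.dead 0)))) (.cons [6, 1] 1 0 (.base (nat_lit 0x4000000100000000000000000000000100000000004) (.op 4 0 (.and 0 8 (.dead 0)))) (.cons [6, 7] 1 0 (.base (nat_lit 0x4000000100000000000000000000000100000000004) (.op 4 0 (.and 0 8 (.dead0 0)))) (.cons [3, 8, 1] 1 0 (.base (nat_lit 0x4000000100000000000000000000000100000000004) (.op 4 0 (.and 0 1 (.dead0 0)))) (.cons [7, 5, 7] 1 0 (.base (nat_lit 0x4000000100000000000000000000000100000000004) (.op 4 0 (.and 0 8 (.dead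 0)))) (.cons [1, 3, 6] 1 0 (.base (nat_lit 0x4000000100000000000000000000000100000000004) (.op 7 1 (.and 1 0 (.dead0 0)))) (.cons [2, 5, 7] 1 0 (.base (nat_lit 0x4000000100000000000000000000000100000000004) (.op 4 0 (.and 0 1 (.dead0 0)))) (.cons [1, 7, 6] 1 0 (.base (nat_lit 0x4000000100000000000000000000000100000000004) (.op 4 0 (.base (nat_lit 0x80000000000000000000000000) (.and 1 0 (.dead0 0))))) (.cons [2, 7, 1] 1 0 (.base (nat_lit 0x4000000100000000000000000000000100000000004) (.op 4 0 (.and 0 8 (.dead 0)))) (.cons [1, 3, 5] 1 0 (.base (nat_lit 0x4000000100000000000000000000000100000000004) (.op 4 0 (.and 0 8 (.dead0 0)))) .nil)))))))))))))))))))))))))) (.cons [7, 1] 2 0 (.base (nat_lit 0xa9b0f6110755405000c44a845af05a184beddc860a860550632a54fa) (.op 4 1 (.and 1 0 (.dead0 0)))) (.cons [5, 4] 1 0 (.base (nat_lit 0xa9b0f6110755405000c44a845af05a184beddc860a860550632a54fa) (.op 4 1 (.and 1 0 (.dead0 0)))) (.cons [4, 7] 2 0 (.base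 (nat_lit 0xa9b0f6110755405000c44a845af05a184beddc860a860550632a54fa) (.op 4 1 (.and 1 0 (.dead0 0)))) (.cons [9, 4] 2 0 (.base (nat_lit 0xa9b0f6110755405000c44a845af05a184beddc860a860550632a54fa) (.op 4 1 (.and 1 0 (.dead0 0)))) (.cons [4, 5, 10, 10] 1 0 (.base (nat_lit 0xa9b0f6110755405000c44a845af05a184beddc860a860550632a54fa) (.op 4 1 (.and 1 0 (.dead0 0)))) (.cons [3, 7, 9, 4] 1 0 (.base (nat_lit 0xa9b0f6110755405000c44a845af05a184beddc860a860550632a54fa) (.op 4 1 (.and 1 0 (.dead0 0)))) .nil)))))))))))))))))))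
noncomputable def BDK : List (List Nat) := [[9, 5, 9, 5], [7, 3, 9, 7, 3], [9, 1, 7, 3, 9, 1], [3, 5, 1, 3, 5, 3, 1], [4, 5, 7, 9, 1, 7, 9, 4, 1, 3, 1], [9, 1, 9, 1], [2, 8, 5, 9, 4, 7, 4, 5, 8, 10, 8, 6, 7, 4, 5, 1, 9, 1, 9, 1], [2, 8, 3, 7, 9, 7, 4, 1, 7, 9, 1, 7, 4, 6, 4, 4, 5, 1, 7, 9, 7, 4, 1, 7, 9, 1, 7, 2, 4, 2, 4, 2, 4]]
noncomputable def BDF : List (List Nat) := [[], [1], [1, 1]]
noncomputable def TD : List (List (List Nat)) := [[[],
  [(nat_lit 2)],
  [(nat_lit 4)],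
  [(nat_lit 6)],
  [(nat_lit 8)],
  [(nat_lit 2), (nat_lit 4)],
  [(nat_lit 2), (nat_lit 6)],
  [(nat_lit 4), (nat_lit 6)],
  [(nat_lit 2), (nat_lit 8)],
  [(nat_lit 6), (nat_lit 4)],
  [(nat_lit 8), (nat_lit 4)],
  [(nat_lit 8), (nat_lit 6)],
  [(nat_lit 4), (nat_lit 6), (nat_lit 2)],
  [(nat_lit 2), (nat_lit 6), (nat_lit 4)],
  [(nat_lit 8), (nat_lit 4), (nat_lit 2)],
  [(nat_lit 4), (nat_lit 6), (nat_lit 4)],
  [(nat_lit 6), (nat_lit 4), (nat_lit 6)],
  [(nat_lit 8), (nat_lit 6), (nat_lit 2)]],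
 [[],
  [(nat_lit 2)]],
 [[],
  [(nat_lit 2)]]]
noncomputable def RL : List (List Nat) := [[],
  [(nat_lit 3), (nat_lit 1), (nat_lit 7), (nat_lit 5), (nat_lit 9), (nat_lit 7), (nat_lit 5), (nat_lit 1)],
  [(nat_lit 5), (nat_lit 1), (nat_lit 7), (nat_lit 9), (nat_lit 5), (nat_lit 7), (nat_lit 1), (nat_lit 4)],
  [(nat_lit 7), (nat_lit 9), (nat_lit 3), (nat_lit 5), (nat_lit 7), (nat_lit 5), (nat_lit 3), (nat_lit 1), (nat_lit 4), (nat_lit 1)],
  [(nat_lit 7), (nat_lit 1), (nat_lit 4), (nat_lit 9), (nat_lit 7), (nat_lit 9), (nat_lit 1), (nat_lit 7), (nat_lit 5), (nat_lit 1)],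
  [(nat_lit 1), (nat_lit 9), (nat_lit 4), (nat_lit 1), (nat_lit 7), (nat_lit 3), (nat_lit 9), (nat_lit 7), (nat_lit 5), (nat_lit 3)],
  [(nat_lit 5), (nat_lit 1), (nat_lit 7), (nat_lit 1), (nat_lit 9), (nat_lit 7), (nat_lit 9), (nat_lit 3), (nat_lit 1), (nat_lit 7)],
  [(nat_lit 5), (nat_lit 7), (nat_lit 1), (nat_lit 7), (nat_lit 5), (nat_lit 1), (nat_lit 3), (nat_lit 9), (nat_lit 7), (nat_lit 4), (nat_lit 1)],
  [(nat_lit 1), (nat_lit 7), (nat_lit 1), (nat_lit 9), (nat_lit 3), (nat_lit 5), (nat_lit 7), (nat_lit 3), (nat_lit 1), (nat_lit 7), (nat_lit 5)]]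

end CF.Recog.ON
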