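import Cfsg.Agent.Cod.Gen
import Cfsg.Agent.Recog.ON.SD

set_option autoImplicit false
set_option maxRecDepth 1000000
set_option maxHeartbeats 0
set_option Elab.async false

namespace CF.Recog.ON

open CF.Comp CF.Cod

theorem eT1_all : Cov eT1_F 8 5 0 := by
  have h := Cov.zero eT1_F 8
  have h := h.blk (b := 8) eT1_k0_0 rfl
  have h := h.next (y := 1) rfl rfl
  have h := h.blk (b := 8) eT1_k1_0 rfl
  have h := h.next (y := 2) rfl rfl
  have h := h.blk (b := 8) eT1_k2_0 rfl
  have h := h.next (y := 3) rfl rfl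
  have h := h.blk (b := 8) eT1_k3_0 rfl
  have h := h.next (y := 4) rfl rfl
  have h := h.blk (b := 8) eT1_k4_0 rfl
  have h := h.next (y := 5) rfl rfl
  exact h

theorem eT1 : Enum RT1 [] (gensW 4) 256 :=
  ⟨eT1_cols, eT1_ch, eT1_L, eT1_H, eT1_pb.1, eT1_e.get, [(nat_lit 0), (nat_lit 1), (nat_lit 3), (nat_lit 5), (nat_lit 7)], (nat_lit 15), (nat_lit 4), eT1_rots, eT1_hcs,
    (nat_lit 257), (nat_lit 5), (nat_lit 512), (nat_lit 64), (nat_lit 32768), (nat_lit 32767), (nat_lit 8), (nat_lit 255), (nat_lit 20), (nat_lit 1048575), (nat_lit 2), (nat_lit 8),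
    fun _ _ => rfl, fun _ => rfl, fun _ _ => rfl, by decide +kernel, eT1_all.1⟩

theorem eT2_all : Cov eT2_F 8 5 0 := by
  have h := Cov.zero eT2_F 8
  have h := h.blk (b := 8) eT2_k0_0 rfl
  have h := h.next (y := 1) rfl rfl
  have h := h.blk (b := 8) eT2_k1_0 rfl
  have h := h.next (y := 2) rfl rfl
  have h := h.blk (b := 8) eT2_k2_0 rfl
  have h := h.next (y := 3) rfl rfl
  have h := h.blk (b := 8) eT2_k3_0 rfl
  have h := h.next (y := 4) rfl rfl
  have h := h.blk (b := 8) eT2_k4_0 rfl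
  have h := h.next (y := 5) rfl rfl
  exact h

theorem eT2 : Enum RT2 [] (gensW 4) 256 :=
  ⟨eT2_cols, eT2_ch, eT2_L, eT2_H, eT2_pb.1, eT2_e.get, [(nat_lit 0), (nat_lit 1), (nat_lit 3), (nat_lit 5), (nat_lit 7)], (nat_lit 15), (nat_lit 4), eT2_rots, eT2_hcs,
    (nat_lit 257), (nat_lit 5), (nat_lit 512), (nat_lit 64), (nat_lit 32768), (nat_lit 32767), (nat_lit 8), (nat_lit 255), (nat_lit 20), (nat_lit 1048575), (nat_lit 2), (nat_lit 8),
    fun _ _ => rfl, fun _ => rfl, fun _ _ => rfl, by decide +kernel, eT2_all.1⟩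

theorem eS110_all : Cov eS110_F 4 7 0 := by
  have h := Cov.zero eS110_F 4
  have h := h.blk (b := 4) eS110_k0_0 rfl
  have h := h.next (y := 1) rfl rfl
  have h := h.blk (b := 4) eS110_k1_0 rfl
  have h := h.next (y := 2) rfl rfl
  have h := h.blk (b := 4) eS110_k2_0 rfl
  have h := h.next (y := 3) rfl rfl
  have h := h.blk (b := 4) eS110_k3_0 rfl
  have h := h.next (y := 4) rfl rfl
  have h := h.blk (b := 4) eS110_k4_0 rfl
  have h := h.next (y := 5) rfl rfl
  have h := h.blk (b := 4) eS110_k5_0 rfl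
  have h := h.next (y := 6) rfl rfl
  have h := h.blk (b := 4) eS110_k6_0 rfl
  have h := h.next (y := 7) rfl rfl
  exact h

theorem eS110 : Enum RS110 (gensW 4) (gensW 5) 2 :=
  ⟨eS110_cols, eS110_ch, eS110_L, eS110_H, eS110_pb.1, eS110_e.get, [(nat_lit 0), (nat_lit 1), (nat_lit 3), (nat_lit 5), (nat_lit 7), (nat_lit 9), (nat_lit 10)], (nat_lit 15), (nat_lit 5), eS110_rots, eS110_hcs,
    (nat_lit 3), (nat_lit 7), (nat_lit 4), (nat_lit 16), (nat_lit 64), (nat_lit 255), (nat_lit 8), (nat_lit 255), (nat_lit 8), (nat_lit 255), (nat_lit 1), (nat_lit 4),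
    fun _ _ => rfl, fun _ => rfl, fun _ _ => rfl, by decide +kernel, eS110_all.1⟩

theorem pS110 : S110.Pres RS110 (gensW 5) :=
  ⟨CT.ok_spec S110_ok, lall_iff.1 S110_rel, by decide +kernel, by decide +kernel, by decide +kernel,
    eS110.bound (ug_rels _) (eT1.bound (rels_sub (ug_rels _) (by decide +kernel)) (bound_nil _))⟩

instance gS110 : S110.Grp := pS110.grp

theorem eS112_all : Cov eS112_F 4 7 0 := by
  have h := Cov.zero eS112_F 4
  have h := h.blk (b := 4) eS112_k0_0 rfl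
  have h := h.next (y := 1) rfl rfl
  have h := h.blk (b := 4) eS112_k1_0 rfl
  have h := h.next (y := 2) rfl rfl
  have h := h.blk (b := 4) eS112_k2_0 rfl
  have h := h.next (y := 3) rfl rfl
  have h := h.blk (b := 4) eS112_k3_0 rfl
  have h := h.next (y := 4) rfl rfl
  have h := h.blk (b := 4) eS112_k4_0 rfl
  have h := h.next (y := 5) rfl rfl
  have h := h.blk (b := 4) eS112_k5_0 rfl
  have h := h.next (y := 6) rfl rfl
  have h := h.blk (b := 4) eS112_k6_0 rfl
  have h := h.next (y := 7) rfl rfl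
  exact h

theorem eS112 : Enum RS112 (gensW 4) (gensW 5) 2 :=
  ⟨eS112_cols, eS112_ch, eS112_L, eS112_H, eS112_pb.1, eS112_e.get, [(nat_lit 0), (nat_lit 1), (nat_lit 3), (nat_lit 5), (nat_lit 7), (nat_lit 9), (nat_lit 10)], (nat_lit 15), (nat_lit 5), eS112_rots, eS112_hcs,
    (nat_lit 3), (nat_lit 7), (nat_lit 4), (nat_lit 16), (nat_lit 64), (nat_lit 255), (nat_lit 8), (nat_lit 255), (nat_lit 8), (nat_lit 255), (nat_lit 1), (nat_lit 4),
    fun _ _ => rfl, fun _ => rfl, fun _ _ => rfl, by decide +kernel, eS112_all.1⟩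

theorem pS112 : S112.Pres RS112 (gensW 5) :=
  ⟨CT.ok_spec S112_ok, lall_iff.1 S112_rel, by decide +kernel, by decide +kernel, by decide +kernel,
    eS112.bound (ug_rels _) (eT1.bound (rels_sub (ug_rels _) (by decide +kernel)) (bound_nil _))⟩

instance gS112 : S112.Grp := pS112.grp

theorem eS120_all : Cov eS120_F 4 7 0 := by
  have h := Cov.zero eS120_F 4
  have h := h.blk (b := 4) eS120_k0_0 rfl
  have h := h.next (y := 1) rfl rfl
  have h := h.blk (b := 4) eS120_k1_0 rfl
  have h := h.next (y := 2) rfl rfl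
  have h := h.blk (b := 4) eS120_k2_0 rfl
  have h := h.next (y := 3) rfl rfl
  have h := h.blk (b := 4) eS120_k3_0 rfl
  have h := h.next (y := 4) rfl rfl
  have h := h.blk (b := 4) eS120_k4_0 rfl
  have h := h.next (y := 5) rfl rfl
  have h := h.blk (b := 4) eS120_k5_0 rfl
  have h := h.next (y := 6) rfl rfl
  have h := h.blk (b := 4) eS120_k6_0 rfl
  have h := h.next (y := 7) rfl rfl
  exact h

theorem eS120 : Enum RS120 (gensW 4) (gensW 5) 2 :=
  ⟨eS120_cols, eS120_ch, eS120_L, eS120_H, eS120_pb.1, eS120_e.get, [(nat_lit 0), (nat_lit 1), (nat_lit 3), (nat_lit 5), (nat_lit 7), (nat_lit 9), (nat_lit 10)], (nat_lit 15), (nat_lit 5), eS120_rots, eS120_hcs,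
    (nat_lit 3), (nat_lit 7), (nat_lit 4), (nat_lit 16), (nat_lit 64), (nat_lit 255), (nat_lit 8), (nat_lit 255), (nat_lit 8), (nat_lit 255), (nat_lit 1), (nat_lit 4),
    fun _ _ => rfl, fun _ => rfl, fun _ _ => rfl, by decide +kernel, eS120_all.1⟩

theorem pS120 : S120.Pres RS120 (gensW 5) :=
  ⟨CT.ok_spec S120_ok, lall_iff.1 S120_rel, by decide +kernel, by decide +kernel, by decide +kernel,
    eS120.bound (ug_rels _) (eT1.bound (rels_sub (ug_rels _) (by decide +kernel)) (bound_nil _))⟩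

instance gS120 : S120.Grp := pS120.grp

theorem eS122_all : Cov eS122_F 4 7 0 := by
  have h := Cov.zero eS122_F 4
  have h := h.blk (b := 4) eS122_k0_0 rfl
  have h := h.next (y := 1) rfl rfl
  have h := h.blk (b := 4) eS122_k1_0 rfl
  have h := h.next (y := 2) rfl rfl
  have h := h.blk (b := 4) eS122_k2_0 rfl
  have h := h.next (y := 3) rfl rfl
  have h := h.blk (b := 4) eS122_k3_0 rfl
  have h := h.next (y := 4) rfl rfl
  have h := h.blk (b := 4) eS122_k4_0 rfl
  have h := h.next (y := 5) rfl rfl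
  have h := h.blk (b := 4) eS122_k5_0 rfl
  have h := h.next (y := 6) rfl rfl
  have h := h.blk (b := 4) eS122_k6_0 rfl
  have h := h.next (y := 7) rfl rfl
  exact h

theorem eS122 : Enum RS122 (gensW 4) (gensW 5) 2 :=
  ⟨eS122_cols, eS122_ch, eS122_L, eS122_H, eS122_pb.1, eS122_e.get, [(nat_lit 0), (nat_lit 1), (nat_lit 3), (nat_lit 5), (nat_lit 7), (nat_lit 9), (nat_lit 10)], (nat_lit 15), (nat_lit 5), eS122_rots, eS122_hcs,
    (nat_lit 3), (nat_lit 7), (nat_lit 4), (nat_lit 16), (nat_lit 64), (nat_lit 255), (nat_lit 8), (nat_lit 255), (nat_lit 8), (nat_lit 255), (nat_lit 1), (nat_lit 4),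
    fun _ _ => rfl, fun _ => rfl, fun _ _ => rfl, by decide +kernel, eS122_all.1⟩

theorem pS122 : S122.Pres RS122 (gensW 5) :=
  ⟨CT.ok_spec S122_ok, lall_iff.1 S122_rel, by decide +kernel, by decide +kernel, by decide +kernel,
    eS122.bound (ug_rels _) (eT1.bound (rels_sub (ug_rels _) (by decide +kernel)) (bound_nil _))⟩

instance gS122 : S122.Grp := pS122.grp

theorem eS130_all : Cov eS130_F 4 7 0 := by
  have h := Cov.zero eS130_F 4
  have h := h.blk (b := 4) eS130_k0_0 rfl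
  have h := h.next (y := 1) rfl rfl
  have h := h.blk (b := 4) eS130_k1_0 rfl
  have h := h.next (y := 2) rfl rfl
  have h := h.blk (b := 4) eS130_k2_0 rfl
  have h := h.next (y := 3) rfl rfl
  have h := h.blk (b := 4) eS130_k3_0 rfl
  have h := h.next (y := 4) rfl rfl
  have h := h.blk (b := 4) eS130_k4_0 rfl
  have h := h.next (y := 5) rfl rfl
  have h := h.blk (b := 4) eS130_k5_0 rfl
  have h := h.next (y := 6) rfl rfl
  have h := h.blk (b := 4) eS130_k6_0 rfl
  have h := h.next (y := 7) rfl rfl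
  exact h

theorem eS130 : Enum RS130 (gensW 4) (gensW 5) 2 :=
  ⟨eS130_cols, eS130_ch, eS130_L, eS130_H, eS130_pb.1, eS130_e.get, [(nat_lit 0), (nat_lit 1), (nat_lit 3), (nat_lit 5), (nat_lit 7), (nat_lit 9), (nat_lit 10)], (nat_lit 15), (nat_lit 5), eS130_rots, eS130_hcs,
    (nat_lit 3), (nat_lit 7), (nat_lit 4), (nat_lit 16), (nat_lit 64), (nat_lit 255), (nat_lit 8), (nat_lit 255), (nat_lit 8), (nat_lit 255), (nat_lit 1), (nat_lit 4),
    fun _ _ => rfl, fun _ => rfl, fun _ _ => rfl, by decide +kernel, eS130_all.1⟩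

theorem pS130 : S130.Pres RS130 (gensW 5) :=
  ⟨CT.ok_spec S130_ok, lall_iff.1 S130_rel, by decide +kernel, by decide +kernel, by decide +kernel,
    eS130.bound (ug_rels _) (eT1.bound (rels_sub (ug_rels _) (by decide +kernel)) (bound_nil _))⟩

instance gS130 : S130.Grp := pS130.grp

theorem eS131_all : Cov eS131_F 4 7 0 := by
  have h := Cov.zero eS131_F 4
  have h := h.blk (b := 4) eS131_k0_0 rfl
  have h := h.next (y := 1) rfl rfl
  have h := h.blk (b := 4) eS131_k1_0 rfl
  have h := h.next (y := 2) rfl rfl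
  have h := h.blk (b := 4) eS131_k2_0 rfl
  have h := h.next (y := 3) rfl rfl
  have h := h.blk (b := 4) eS131_k3_0 rfl
  have h := h.next (y := 4) rfl rfl
  have h := h.blk (b := 4) eS131_k4_0 rfl
  have h := h.next (y := 5) rfl rfl
  have h := h.blk (b := 4) eS131_k5_0 rfl
  have h := h.next (y := 6) rfl rfl
  have h := h.blk (b := 4) eS131_k6_0 rfl
  have h := h.next (y := 7) rfl rfl
  exact h

theorem eS131 : Enum RS131 (gensW 4) (gensW 5) 2 :=
  ⟨eS131_cols, eS131_ch, eS131_L, eS131_H, eS131_pb.1, eS131_e.get, [(nat_lit 0), (nat_lit 1), (nat_lit 3), (nat_lit 5), (nat_lit 7), (nat_lit 9), (nat_lit 10)], (nat_lit 15), (nat_lit 5), eS131_rots, eS131_hcs,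
    (nat_lit 3), (nat_lit 7), (nat_lit 4), (nat_lit 16), (nat_lit 64), (nat_lit 255), (nat_lit 8), (nat_lit 255), (nat_lit 8), (nat_lit 255), (nat_lit 1), (nat_lit 4),
    fun _ _ => rfl, fun _ => rfl, fun _ _ => rfl, by decide +kernel, eS131_all.1⟩

theorem pS131 : S131.Pres RS131 (gensW 5) :=
  ⟨CT.ok_spec S131_ok, lall_iff.1 S131_rel, by decide +kernel, by decide +kernel, by decide +kernel,
    eS131.bound (ug_rels _) (eT1.bound (rels_sub (ug_rels _) (by decide +kernel)) (bound_nil _))⟩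

instance gS131 : S131.Grp := pS131.grp

theorem eS210_all : Cov eS210_F 4 7 0 := by
  have h := Cov.zero eS210_F 4
  have h := h.blk (b := 4) eS210_k0_0 rfl
  have h := h.next (y := 1) rfl rfl
  have h := h.blk (b := 4) eS210_k1_0 rfl
  have h := h.next (y := 2) rfl rfl
  have h := h.blk (b := 4) eS210_k2_0 rfl
  have h := h.next (y := 3) rfl rfl
  have h := h.blk (b := 4) eS210_k3_0 rfl
  have h := h.next (y := 4) rfl rfl
  have h := h.blk (b := 4) eS210_k4_0 rfl
  have h := h.next (y := 5) rfl rfl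
  have h := h.blk (b := 4) eS210_k5_0 rfl
  have h := h.next (y := 6) rfl rfl
  have h := h.blk (b := 4) eS210_k6_0 rfl
  have h := h.next (y := 7) rfl rfl
  exact h

theorem eS210 : Enum RS210 (gensW 4) (gensW 5) 2 :=
  ⟨eS210_cols, eS210_ch, eS210_L, eS210_H, eS210_pb.1, eS210_e.get, [(nat_lit 0), (nat_lit 1), (nat_lit 3), (nat_lit 5), (nat_lit 7), (nat_lit 9), (nat_lit 10)], (nat_lit 15), (nat_lit 5), eS210_rots, eS210_hcs,
    (nat_lit 3), (nat_lit 7), (nat_lit 4), (nat_lit 16), (nat_lit 64), (nat_lit 255), (nat_lit 8), (nat_lit 255), (nat_lit 8), (nat_lit 255), (nat_lit 1), (nat_lit 4),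
    fun _ _ => rfl, fun _ => rfl, fun _ _ => rfl, by decide +kernel, eS210_all.1⟩

theorem pS210 : S210.Pres RS210 (gensW 5) :=
  ⟨CT.ok_spec S210_ok, lall_iff.1 S210_rel, by decide +kernel, by decide +kernel, by decide +kernel,
    eS210.bound (ug_rels _) (eT2.bound (rels_sub (ug_rels _) (by decide +kernel)) (bound_nil _))⟩

instance gS210 : S210.Grp := pS210.grp

theorem eS212_all : Cov eS212_F 4 7 0 := by
  have h := Cov.zero eS212_F 4
  have h := h.blk (b := 4) eS212_k0_0 rfl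
  have h := h.next (y := 1) rfl rfl
  have h := h.blk (b := 4) eS212_k1_0 rfl
  have h := h.next (y := 2) rfl rfl
  have h := h.blk (b := 4) eS212_k2_0 rfl
  have h := h.next (y := 3) rfl rfl
  have h := h.blk (b := 4) eS212_k3_0 rfl
  have h := h.next (y := 4) rfl rfl
  have h := h.blk (b := 4) eS212_k4_0 rfl
  have h := h.next (y := 5) rfl rfl
  have h := h.blk (b := 4) eS212_k5_0 rfl
  have h := h.next (y := 6) rfl rfl
  have h := h.blk (b := 4) eS212_k6_0 rfl
  have h := h.next (y := 7) rfl rfl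
  exact h

theorem eS212 : Enum RS212 (gensW 4) (gensW 5) 2 :=
  ⟨eS212_cols, eS212_ch, eS212_L, eS212_H, eS212_pb.1, eS212_e.get, [(nat_lit 0), (nat_lit 1), (nat_lit 3), (nat_lit 5), (nat_lit 7), (nat_lit 9), (nat_lit 10)], (nat_lit 15), (nat_lit 5), eS212_rots, eS212_hcs,
    (nat_lit 3), (nat_lit 7), (nat_lit 4), (nat_lit 16), (nat_lit 64), (nat_lit 255), (nat_lit 8), (nat_lit 255), (nat_lit 8), (nat_lit 255), (nat_lit 1), (nat_lit 4),
    fun _ _ => rfl, fun _ => rfl, fun _ _ => rfl, by decide +kernel, eS212_all.1⟩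

theorem pS212 : S212.Pres RS212 (gensW 5) :=
  ⟨CT.ok_spec S212_ok, lall_iff.1 S212_rel, by decide +kernel, by decide +kernel, by decide +kernel,
    eS212.bound (ug_rels _) (eT2.bound (rels_sub (ug_rels _) (by decide +kernel)) (bound_nil _))⟩

instance gS212 : S212.Grp := pS212.grp

theorem eS220_all : Cov eS220_F 4 7 0 := by
  have h := Cov.zero eS220_F 4
  have h := h.blk (b := 4) eS220_k0_0 rfl
  have h := h.next (y := 1) rfl rfl
  have h := h.blk (b := 4) eS220_k1_0 rfl
  have h := h.next (y := 2) rfl rfl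
  have h := h.blk (b := 4) eS220_k2_0 rfl
  have h := h.next (y := 3) rfl rfl
  have h := h.blk (b := 4) eS220_k3_0 rfl
  have h := h.next (y := 4) rfl rfl
  have h := h.blk (b := 4) eS220_k4_0 rfl
  have h := h.next (y := 5) rfl rfl
  have h := h.blk (b := 4) eS220_k5_0 rfl
  have h := h.next (y := 6) rfl rfl
  have h := h.blk (b := 4) eS220_k6_0 rfl
  have h := h.next (y := 7) rfl rfl
  exact h

theorem eS220 : Enum RS220 (gensW 4) (gensW 5) 2 :=
  ⟨eS220_cols, eS220_ch, eS220_L, eS220_H, eS220_pb.1, eS220_e.get, [(nat_lit 0), (nat_lit 1), (nat_lit 3), (nat_lit 5), (nat_lit 7), (nat_lit 9), (nat_lit 10)], (nat_lit 15), (nat_lit 5), eS220_rots, eS220_hcs,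
    (nat_lit 3), (nat_lit 7), (nat_lit 4), (nat_lit 16), (nat_lit 64), (nat_lit 255), (nat_lit 8), (nat_lit 255), (nat_lit 8), (nat_lit 255), (nat_lit 1), (nat_lit 4),
    fun _ _ => rfl, fun _ => rfl, fun _ _ => rfl, by decide +kernel, eS220_all.1⟩

theorem pS220 : S220.Pres RS220 (gensW 5) :=
  ⟨CT.ok_spec S220_ok, lall_iff.1 S220_rel, by decide +kernel, by decide +kernel, by decide +kernel,
    eS220.bound (ug_rels _) (eT2.bound (rels_sub (ug_rels _) (by decide +kernel)) (bound_nil _))⟩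

instance gS220 : S220.Grp := pS220.grp

theorem eS221_all : Cov eS221_F 4 7 0 := by
  have h := Cov.zero eS221_F 4
  have h := h.blk (b := 4) eS221_k0_0 rfl
  have h := h.next (y := 1) rfl rfl
  have h := h.blk (b := 4) eS221_k1_0 rfl
  have h := h.next (y := 2) rfl rfl
  have h := h.blk (b := 4) eS221_k2_0 rfl
  have h := h.next (y := 3) rfl rfl
  have h := h.blk (b := 4) eS221_k3_0 rfl
  have h := h.next (y := 4) rfl rfl
  have h := h.blk (b := 4) eS221_k4_0 rfl
  have h := h.next (y := 5) rfl rfl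
  have h := h.blk (b := 4) eS221_k5_0 rfl
  have h := h.next (y := 6) rfl rfl
  have h := h.blk (b := 4) eS221_k6_0 rfl
  have h := h.next (y := 7) rfl rfl
  exact h

theorem eS221 : Enum RS221 (gensW 4) (gensW 5) 2 :=
  ⟨eS221_cols, eS221_ch, eS221_L, eS221_H, eS221_pb.1, eS221_e.get, [(nat_lit 0), (nat_lit 1), (nat_lit 3), (nat_lit 5), (nat_lit 7), (nat_lit 9), (nat_lit 10)], (nat_lit 15), (nat_lit 5), eS221_rots, eS221_hcs,
    (nat_lit 3), (nat_lit 7), (nat_lit 4), (nat_lit 16), (nat_lit 64), (nat_lit 255), (nat_lit 8), (nat_lit 255), (nat_lit 8), (nat_lit 255), (nat_lit 1), (nat_lit 4),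
    fun _ _ => rfl, fun _ => rfl, fun _ _ => rfl, by decide +kernel, eS221_all.1⟩

theorem pS221 : S221.Pres RS221 (gensW 5) :=
  ⟨CT.ok_spec S221_ok, lall_iff.1 S221_rel, by decide +kernel, by decide +kernel, by decide +kernel,
    eS221.bound (ug_rels _) (eT2.bound (rels_sub (ug_rels _) (by decide +kernel)) (bound_nil _))⟩

instance gS221 : S221.Grp := pS221.grp

theorem eS230_all : Cov eS230_F 4 7 0 := by
  have h := Cov.zero eS230_F 4
  have h := h.blk (b := 4) eS230_k0_0 rfl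
  have h := h.next (y := 1) rfl rfl
  have h := h.blk (b := 4) eS230_k1_0 rfl
  have h := h.next (y := 2) rfl rfl
  have h := h.blk (b := 4) eS230_k2_0 rfl
  have h := h.next (y := 3) rfl rfl
  have h := h.blk (b := 4) eS230_k3_0 rfl
  have h := h.next (y := 4) rfl rfl
  have h := h.blk (b := 4) eS230_k4_0 rfl
  have h := h.next (y := 5) rfl rfl
  have h := h.blk (b := 4) eS230_k5_0 rfl
  have h := h.next (y := 6) rfl rfl
  have h := h.blk (b := 4) eS230_k6_0 rfl
  have h := h.next (y := 7) rfl rfl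
  exact h

theorem eS230 : Enum RS230 (gensW 4) (gensW 5) 2 :=
  ⟨eS230_cols, eS230_ch, eS230_L, eS230_H, eS230_pb.1, eS230_e.get, [(nat_lit 0), (nat_lit 1), (nat_lit 3), (nat_lit 5), (nat_lit 7), (nat_lit 9), (nat_lit 10)], (nat_lit 15), (nat_lit 5), eS230_rots, eS230_hcs,
    (nat_lit 3), (nat_lit 7), (nat_lit 4), (nat_lit 16), (nat_lit 64), (nat_lit 255), (nat_lit 8), (nat_lit 255), (nat_lit 8), (nat_lit 255), (nat_lit 1), (nat_lit 4),
    fun _ _ => rfl, fun _ => rfl, fun _ _ => rfl, by decide +kernel, eS230_all.1⟩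

theorem pS230 : S230.Pres RS230 (gensW 5) :=
  ⟨CT.ok_spec S230_ok, lall_iff.1 S230_rel, by decide +kernel, by decide +kernel, by decide +kernel,
    eS230.bound (ug_rels _) (eT2.bound (rels_sub (ug_rels _) (by decide +kernel)) (bound_nil _))⟩

instance gS230 : S230.Grp := pS230.grp

theorem eS232_all : Cov eS232_F 4 7 0 := by
  have h := Cov.zero eS232_F 4
  have h := h.blk (b := 4) eS232_k0_0 rfl
  have h := h.next (y := 1) rfl rfl
  have h := h.blk (b := 4) eS232_k1_0 rfl
  have h := h.next (y := 2) rfl rfl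
  have h := h.blk (b := 4) eS232_k2_0 rfl
  have h := h.next (y := 3) rfl rfl
  have h := h.blk (b := 4) eS232_k3_0 rfl
  have h := h.next (y := 4) rfl rfl
  have h := h.blk (b := 4) eS232_k4_0 rfl
  have h := h.next (y := 5) rfl rfl
  have h := h.blk (b := 4) eS232_k5_0 rfl
  have h := h.next (y := 6) rfl rfl
  have h := h.blk (b := 4) eS232_k6_0 rfl
  have h := h.next (y := 7) rfl rfl
  exact h

theorem eS232 : Enum RS232 (gensW 4) (gensW 5) 2 :=
  ⟨eS232_cols, eS232_ch, eS232_L, eS232_H, eS232_pb.1, eS232_e.get, [(nat_lit 0), (nat_lit 1), (nat_lit 3), (nat_lit 5), (nat_lit 7), (nat_lit 9), (nat_lit 10)], (nat_lit 15), (nat_lit 5), eS232_rots, eS232_hcs,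
    (nat_lit 3), (nat_lit 7), (nat_lit 4), (nat_lit 16), (nat_lit 64), (nat_lit 255), (nat_lit 8), (nat_lit 255), (nat_lit 8), (nat_lit 255), (nat_lit 1), (nat_lit 4),
    fun _ _ => rfl, fun _ => rfl, fun _ _ => rfl, by decide +kernel, eS232_all.1⟩

theorem pS232 : S232.Pres RS232 (gensW 5) :=
  ⟨CT.ok_spec S232_ok, lall_iff.1 S232_rel, by decide +kernel, by decide +kernel, by decide +kernel,
    eS232.bound (ug_rels _) (eT2.bound (rels_sub (ug_rels _) (by decide +kernel)) (bound_nil _))⟩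

instance gS232 : S232.Grp := pS232.grp


end CF.Recog.ON
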